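import Groth.Prelude.Def_W4stk3formalspacesTaut
import Mathlib.Topology.Algebra.InfiniteSum.Nonarchimedean
import Mathlib.Topology.Algebra.Nonarchimedean.Basic

/-!
# Linearly topologized rings: basic lemmas

Open ideals, closures of ideals, the open mapping lemma for groups with a basis of open subgroups.
-/

set_option autoImplicit false

universe u v w

namespace K22.Basic

open LinTop Filter Topology

section Ring

variable {A : Type u} [CommRing A] [TopologicalSpace A] [IsTopologicalRing A]

theorem isClosed_of_isOpen {I : Ideal A} (h : IsOpen (I : Set A)) : IsClosed (I : Set A) :=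
  I.toAddSubgroup.isClosed_of_isOpen h

theorem isOpen_of_le {I J : Ideal A} (h : IsOpen (I : Set A)) (hIJ : I ≤ J) :
    IsOpen (J : Set A) :=
  AddSubgroup.isOpen_mono (H₁ := I.toAddSubgroup) (H₂ := J.toAddSubgroup) hIJ h

omit [IsTopologicalRing A] in
theorem isOpen_inf {I J : Ideal A} (hI : IsOpen (I : Set A)) (hJ : IsOpen (J : Set A)) :
    IsOpen ((I ⊓ J : Ideal A) : Set A) := by
  rw [Submodule.coe_inf]
  exact hI.inter hJ

theorem le_closure (I : Ideal A) : I ≤ I.closure := fun _ hx => subset_closure hx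

theorem closure_mono {I J : Ideal A} (h : I ≤ J) : I.closure ≤ J.closure :=
  _root_.closure_mono (s := (I : Set A)) (t := J) h

theorem closure_le {I J : Ideal A} (hJ : IsClosed (J : Set A)) (h : I ≤ J) : I.closure ≤ J :=
  closure_minimal (s := (I : Set A)) (t := J) h hJ

theorem isClosed_closure (I : Ideal A) : IsClosed (I.closure : Set A) := by
  rw [Ideal.coe_closure]; exact _root_.isClosed_closure

theorem closure_mul_closure_le (I J : Ideal A) : I.closure * J.closure ≤ (I * J).closure := by
  rw [Ideal.mul_le]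
  intro r hr s hs
  have hr' : r ∈ closure (I : Set A) := hr
  have hs' : s ∈ closure (J : Set A) := hs
  have h := map_mem_closure₂ (f := fun x y : A => x * y) continuous_mul hr' hs'
    (u := ((I * J : Ideal A) : Set A)) (fun a ha b hb => Ideal.mul_mem_mul ha hb)
  exact h

theorem closure_pow_le (I : Ideal A) (n : ℕ) : I.closure ^ n ≤ (I ^ n).closure := by
  induction n with
  | zero => simpa using le_closure (⊤ : Ideal A)
  | succ n ih =>
    rw [pow_succ, pow_succ]
    exact (Ideal.mul_mono_left ih).trans (closure_mul_closure_le _ _)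

/-- If `J` is open then `closure I ≤ I ⊔ J`. -/
theorem closure_le_sup {I J : Ideal A} (hJ : IsOpen (J : Set A)) : I.closure ≤ I ⊔ J :=
  closure_le (isClosed_of_isOpen (isOpen_of_le hJ le_sup_right)) le_sup_left

/-- A linearly topologized ring is nonarchimedean. -/
theorem nonarchimedeanAddGroup [IsLinearTopology A A] : NonarchimedeanAddGroup A := by
  refine ⟨fun U hU => ?_⟩
  obtain ⟨J, hJ, hJU⟩ := (IsLinearTopology.hasBasis_open_ideal (R := A)).mem_iff.1 hU
  exact ⟨⟨J.toAddSubgroup, hJ⟩, hJU⟩

theorem exists_open_ideal [IsLinearTopology A A] {U : Set A} (hU : U ∈ 𝓝 (0 : A)) :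
    ∃ J : Ideal A, IsOpen (J : Set A) ∧ (J : Set A) ⊆ U := by
  obtain ⟨J, hJ, hJU⟩ := (IsLinearTopology.hasBasis_open_ideal (R := A)).mem_iff.1 hU
  exact ⟨J, hJ, hJU⟩

omit [IsTopologicalRing A] in
theorem mem_nhds {I : Ideal A} (h : IsOpen (I : Set A)) : (I : Set A) ∈ 𝓝 (0 : A) :=
  h.mem_nhds I.zero_mem

/-- In a linearly topologized ring, the closure of an ideal is the intersection of the sums
with the open ideals. -/
theorem mem_closure_iff [IsLinearTopology A A] {I : Ideal A} {x : A} :
    x ∈ I.closure ↔ ∀ J : Ideal A, IsOpen (J : Set A) → x ∈ I ⊔ J := by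
  constructor
  · intro hx J hJ
    exact closure_le_sup hJ hx
  · intro h
    change x ∈ closure (I : Set A)
    rw [mem_closure_iff_nhds]
    intro U hU
    have hU' : (fun y => x + y) ⁻¹' U ∈ 𝓝 (0 : A) := by
      apply (continuous_const.add continuous_id).continuousAt.preimage_mem_nhds
      simpa using hU
    obtain ⟨J, hJ, hJU⟩ := exists_open_ideal hU'
    obtain ⟨y, hy, z, hz, hyz⟩ := Submodule.mem_sup.1 (h J hJ)
    refine ⟨y, ?_, hy⟩
    have := hJU (J.neg_mem hz)
    have e : x + -z = y := by rw [← hyz]; ring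
    simpa [e] using this

omit [IsTopologicalRing A] in
theorem isLinearTopology_of_isAdic {I : Ideal A} (h : IsAdic I) : IsLinearTopology A A := by
  have := I.isLinearTopology
  rw [← (show _ = _ from h)] at this
  exact this

theorem isIdealOfDefinition_of_isAdic {I : Ideal A} (h : IsAdic I) : IsIdealOfDefinition A I := by
  rw [isAdic_iff] at h
  refine ⟨by simpa using h.1 1, fun U hU => ?_⟩
  obtain ⟨n, hn⟩ := h.2 U hU
  exact ⟨n + 1, Nat.succ_pos n, fun x hx => hn (Ideal.pow_le_pow_right (Nat.le_succ n) hx)⟩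

end Ring

section Taut

variable {A : Type u} [CommRing A] [TopologicalSpace A] [IsTopologicalRing A]
variable {B : Type v} [CommRing B] [TopologicalSpace B] [IsTopologicalRing B]

omit [IsTopologicalRing A] in
theorem taut_exists {φ : A →+* B} (hφ : IsTaut φ) {J : Ideal B} (hJ : IsOpen (J : Set B)) :
    ∃ I : Ideal A, IsOpen (I : Set A) ∧ (I.map φ).closure ≤ J :=
  hφ.2.2 _ (mem_nhds hJ)

omit [IsTopologicalRing A] in
theorem taut_isOpen {φ : A →+* B} (hφ : IsTaut φ) {I : Ideal A} (hI : IsOpen (I : Set A)) :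
    IsOpen ((I.map φ).closure : Set B) := hφ.2.1 I hI

/-- It is enough to test closures of extensions of ideals modulo closure. -/
theorem map_closure_le {φ : A →+* B} (hφ : Continuous φ) (I : Ideal A) :
    I.closure.map φ ≤ (I.map φ).closure := by
  rw [Ideal.map_le_iff_le_comap]
  intro x hx
  have hx' : x ∈ closure (I : Set A) := hx
  exact map_mem_closure hφ hx' (fun a ha => Ideal.mem_map_of_mem φ ha)

end Taut

section OpenMapping

variable {G : Type u} {H : Type v} [AddCommGroup G] [UniformSpace G] [IsUniformAddGroup G]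
  [CompleteSpace G] [AddCommGroup H] [TopologicalSpace H] [IsTopologicalAddGroup H] [T2Space H]

/-- Successive approximation: a continuous homomorphism `f` from a complete group having a
countable basis `U n` of open subgroups to a Hausdorff group, such that the closures of the
`f (U n)` are open, satisfies `f (U n) = closure (f (U n))`. -/
theorem closure_image_subset (f : G →+ H) (hf : Continuous f) (U : ℕ → AddSubgroup G)
    (hU : (𝓝 (0 : G)).HasAntitoneBasis (fun n => (U n : Set G)))
    (hc : ∀ n, IsOpen (closure (f '' (U n : Set G)))) (n : ℕ) :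
    closure (f '' (U n : Set G)) ⊆ f '' (U n : Set G) := by
  have hUo : ∀ n, IsOpen (U n : Set G) := fun n =>
    (U n).isOpen_of_mem_nhds (hU.mem n)
  have hna : NonarchimedeanAddGroup G := by
    refine ⟨fun V hV => ?_⟩
    obtain ⟨k, hk⟩ := hU.mem_iff.1 hV
    exact ⟨⟨U k, hUo k⟩, hk⟩
  let W : ℕ → AddSubgroup H := fun k => ((U k).map f).topologicalClosure
  have hW : ∀ k, (W k : Set H) = closure (f '' (U k : Set G)) := fun k => by
    simp [W, AddSubgroup.topologicalClosure_coe, AddSubgroup.coe_map]
  have hWo : ∀ k, IsOpen (W k : Set H) := fun k => by rw [hW]; exact hc k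
  have hstep : ∀ k (b : H), b ∈ W k → ∃ a ∈ U k, b - f a ∈ W (k + 1) := by
    intro k b hb
    have hb' : b ∈ closure (f '' (U k : Set G)) := by rw [← hW]; exact hb
    have hn : (fun y => b - y) ⁻¹' (W (k + 1) : Set H) ∈ 𝓝 b := by
      apply (continuous_const.sub continuous_id).continuousAt.preimage_mem_nhds
      simpa using (hWo (k + 1)).mem_nhds (W (k + 1)).zero_mem
    obtain ⟨_, hy, a, ha, rfl⟩ := mem_closure_iff_nhds.1 hb' _ hn
    exact ⟨a, ha, hy⟩
  have hWtend : ∀ V ∈ 𝓝 (0 : H), ∃ k, (W k : Set H) ⊆ V := by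
    intro V hV
    obtain ⟨T, hT, hTc, hTV⟩ := exists_mem_nhds_isClosed_subset hV
    have : f ⁻¹' T ∈ 𝓝 (0 : G) := hf.continuousAt.preimage_mem_nhds (by simpa using hT)
    obtain ⟨k, hk⟩ := hU.mem_iff.1 this
    refine ⟨k, ?_⟩
    rw [hW]
    exact (closure_minimal (Set.image_subset_iff.2 hk) hTc).trans hTV
  intro b hb
  rw [← hW] at hb
  choose a ha ha' using hstep
  let s : (k : ℕ) → {x : G // b - f x ∈ W (n + k) ∧ x ∈ U n} := fun k =>
    Nat.rec (motive := fun k => {x : G // b - f x ∈ W (n + k) ∧ x ∈ U n})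
      ⟨0, by simpa using hb, (U n).zero_mem⟩
      (fun k x => ⟨x.1 + a (n + k) (b - f x.1) x.2.1, by
        rw [map_add, ← sub_sub]
        exact ha' (n + k) _ x.2.1, (U n).add_mem x.2.2
          (hU.antitone (Nat.le_add_right n k) (ha (n + k) _ x.2.1))⟩) k
  have hs : ∀ k, (s (k + 1)).1 - (s k).1 ∈ U (n + k) := fun k => by
    change (s k).1 + _ - (s k).1 ∈ _
    rw [add_sub_cancel_left]
    exact ha (n + k) _ (s k).2.1
  have hcs : CauchySeq (fun k => (s k).1) := by
    refine NonarchimedeanAddGroup.cauchySeq_of_tendsto_sub_nhds_zero ?_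
    rw [tendsto_def]
    intro V hV
    obtain ⟨k, hk⟩ := hU.mem_iff.1 hV
    rw [mem_atTop_sets]
    refine ⟨k, fun m hm => hk (hU.antitone (hm.trans (Nat.le_add_left m n)) (hs m))⟩
  obtain ⟨x, hx⟩ := cauchySeq_tendsto_of_complete hcs
  refine ⟨x, ?_, ?_⟩
  · exact ((U n).isClosed_of_isOpen (hUo n)).mem_of_tendsto hx
      (Eventually.of_forall fun k => (s k).2.2)
  · have h1 : Tendsto (fun k => b - f (s k).1) atTop (𝓝 (b - f x)) :=
      (hf.continuousAt.tendsto.comp hx).const_sub b
    have h2 : Tendsto (fun k => b - f (s k).1) atTop (𝓝 0) := by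
      rw [tendsto_def]
      intro V hV
      obtain ⟨k, hk⟩ := hWtend V hV
      rw [mem_atTop_sets]
      refine ⟨k, fun m hm => hk ?_⟩
      have h3 : (W (n + m) : Set H) ⊆ W k := by
        rw [hW, hW]
        exact _root_.closure_mono (Set.image_mono
          (hU.antitone (hm.trans (Nat.le_add_left m n))))
      exact h3 (s m).2.1
    have := tendsto_nhds_unique h1 h2
    rw [sub_eq_zero] at this
    exact this.symm

/-- In the situation of `closure_image_subset`, `f` is an open map. -/
theorem isOpenMap_of_isOpen_closure (f : G →+ H) (hf : Continuous f) (U : ℕ → AddSubgroup G)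
    (hU : (𝓝 (0 : G)).HasAntitoneBasis (fun n => (U n : Set G)))
    (hc : ∀ n, IsOpen (closure (f '' (U n : Set G)))) : IsOpenMap f := by
  have key : ∀ n, IsOpen (f '' (U n : Set G)) := fun n => by
    have : f '' (U n : Set G) = closure (f '' (U n : Set G)) :=
      subset_closure.antisymm (closure_image_subset f hf U hU hc n)
    rw [this]; exact hc n
  rw [isOpenMap_iff_nhds_le]
  intro x V hV
  rw [mem_map] at hV
  have h0 : (fun y => x + y) ⁻¹' (f ⁻¹' V) ∈ 𝓝 (0 : G) := by
    apply (continuous_const.add continuous_id).continuousAt.preimage_mem_nhds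
    simpa using hV
  obtain ⟨k, hk⟩ := hU.mem_iff.1 h0
  have hc4 : Continuous (fun z : H => z - f x) := continuous_id.sub continuous_const
  have h1 : (fun z => z - f x) ⁻¹' (f '' (U k : Set G)) ∈ 𝓝 (f x) := by
    apply hc4.continuousAt.preimage_mem_nhds
    rw [sub_self]
    exact (key k).mem_nhds ⟨0, (U k).zero_mem, map_zero f⟩
  refine mem_of_superset h1 ?_
  rintro z ⟨u, hu, huz⟩
  have := hk hu
  have h2 : f u = z - f x := huz
  have h3 : f (x + u) ∈ V := this
  rw [map_add, h2] at h3
  simpa using h3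

/-- In the situation of `closure_image_subset`, if moreover `f` has dense image then it is
surjective. -/
theorem surjective_of_isOpen_closure (f : G →+ H) (hf : Continuous f) (U : ℕ → AddSubgroup G)
    (hU : (𝓝 (0 : G)).HasAntitoneBasis (fun n => (U n : Set G)))
    (hc : ∀ n, IsOpen (closure (f '' (U n : Set G)))) (hd : DenseRange f) :
    Function.Surjective f := by
  have ho := isOpenMap_of_isOpen_closure f hf U hU hc
  have h1 : IsClosed (f.range : Set H) := f.range.isClosed_of_isOpen (by
    rw [AddMonoidHom.coe_range]; exact ho.isOpen_range)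
  rw [← Set.range_eq_univ, ← AddMonoidHom.coe_range, ← h1.closure_eq, AddMonoidHom.coe_range]
  exact hd.closure_eq

/-- A countably generated filter of neighbourhoods of `0` with a basis of open subgroups has an
antitone basis of open subgroups. -/
theorem exists_antitone_basis {G : Type u} [AddCommGroup G] [TopologicalSpace G]
    [NonarchimedeanAddGroup G] (h : (𝓝 (0 : G)).IsCountablyGenerated) :
    ∃ U : ℕ → AddSubgroup G, (∀ n, IsOpen (U n : Set G)) ∧
      (𝓝 (0 : G)).HasAntitoneBasis (fun n => (U n : Set G)) := by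
  have hb : (𝓝 (0 : G)).HasBasis (fun V : AddSubgroup G => IsOpen (V : Set G))
      (fun V : AddSubgroup G => (V : Set G)) := by
    refine ⟨fun s => ⟨fun hs => ?_, fun ⟨V, hV, hVs⟩ => mem_of_superset
      (hV.mem_nhds V.zero_mem) hVs⟩⟩
    obtain ⟨V, hV⟩ := NonarchimedeanAddGroup.is_nonarchimedean s hs
    exact ⟨V.1, V.isOpen', hV⟩
  obtain ⟨x, hx, hx'⟩ := hb.exists_antitone_subbasis
  exact ⟨x, hx, hx'⟩

end OpenMapping

end K22.Basic
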