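import Groth.Agent.LinTop.K22.Basic
import Mathlib.Topology.Algebra.GroupCompletion
import Mathlib.Topology.Algebra.Group.Quotient

/-!
# Completions of abelian topological groups with a basis of open subgroups
-/

set_option autoImplicit false

universe u v w

namespace K22.Compl

open Filter Topology UniformSpace

variable {M : Type u} [AddCommGroup M] [UniformSpace M] [IsUniformAddGroup M]
  {H : Type v} [AddCommGroup H] [UniformSpace H] [IsUniformAddGroup H]

/-- The closure of the image of a subgroup in the completion. -/
noncomputable def hat (U : AddSubgroup M) : AddSubgroup (Completion M) :=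
  (U.map (Completion.toCompl : M →+ Completion M)).topologicalClosure

theorem coe_hat (U : AddSubgroup M) :
    (hat U : Set (Completion M)) = closure (((↑) : M → Completion M) '' (U : Set M)) := by
  simp only [hat, AddSubgroup.topologicalClosure_coe, AddSubgroup.coe_map]
  rfl

theorem coe_mem_hat {U : AddSubgroup M} {m : M} (hm : m ∈ U) : (m : Completion M) ∈ hat U := by
  change (m : Completion M) ∈ (hat U : Set (Completion M))
  rw [coe_hat]
  exact subset_closure ⟨m, hm, rfl⟩

theorem hat_mono {U V : AddSubgroup M} (h : U ≤ V) : hat U ≤ hat V := by
  intro x hx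
  change x ∈ (hat V : Set (Completion M))
  have hx' : x ∈ (hat U : Set (Completion M)) := hx
  rw [coe_hat] at hx' ⊢
  exact closure_mono (Set.image_mono h) hx'

theorem isClosed_hat (U : AddSubgroup M) : IsClosed (hat U : Set (Completion M)) := by
  rw [coe_hat]; exact isClosed_closure

theorem isOpen_hat {U : AddSubgroup M} (hU : IsOpen (U : Set M)) :
    IsOpen (hat U : Set (Completion M)) := by
  have h1 := (Completion.isDenseInducing_coe (α := M)).closure_image_mem_nhds
    (hU.mem_nhds U.zero_mem)
  rw [Completion.coe_zero, ← coe_hat] at h1
  exact (hat U).isOpen_of_mem_nhds h1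

/-- An open subgroup is recovered from its closure in the completion. -/
theorem coe_mem_hat_iff {U : AddSubgroup M} (hU : IsClosed (U : Set M)) (m : M) :
    (m : Completion M) ∈ hat U ↔ m ∈ U := by
  constructor
  · intro hm
    have hm' : (m : Completion M) ∈ (hat U : Set (Completion M)) := hm
    rw [coe_hat] at hm'
    have h2 := (Completion.isDenseInducing_coe (α := M)).isInducing.closure_eq_preimage_closure_image
      (U : Set M)
    rw [hU.closure_eq] at h2
    change m ∈ (U : Set M)
    rw [h2]
    exact hm'
  · exact coe_mem_hat

/-- The closures of the images of the open subgroups form a basis of neighbourhoods of zero. -/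
theorem exists_hat_subset [NonarchimedeanAddGroup M] {V : Set (Completion M)}
    (hV : V ∈ 𝓝 (0 : Completion M)) :
    ∃ U : AddSubgroup M, IsOpen (U : Set M) ∧ (hat U : Set (Completion M)) ⊆ V := by
  obtain ⟨T, hT, hTc, hTV⟩ := exists_mem_nhds_isClosed_subset hV
  have h1 : ((↑) : M → Completion M) ⁻¹' T ∈ 𝓝 (0 : M) := by
    refine (Completion.continuous_coe M).continuousAt.preimage_mem_nhds ?_
    rw [Completion.coe_zero]
    exact hT
  obtain ⟨U, hU⟩ := NonarchimedeanAddGroup.is_nonarchimedean _ h1
  refine ⟨U.1, U.isOpen', ?_⟩
  rw [coe_hat]
  exact (closure_minimal (Set.image_subset_iff.2 hU) hTc).trans hTV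

theorem exists_coe_add (U : AddSubgroup M) (hU : IsOpen (U : Set M)) (x : Completion M) :
    ∃ m : M, ∃ u ∈ hat U, (m : Completion M) = x + u := by
  have hc4 : Continuous (fun z : Completion M => z - x) := continuous_id.sub continuous_const
  have h1 : (fun z : Completion M => z - x) ⁻¹' (hat U : Set (Completion M)) ∈ 𝓝 x := by
    apply hc4.continuousAt.preimage_mem_nhds
    rw [sub_self]
    exact (isOpen_hat hU).mem_nhds (hat U).zero_mem
  obtain ⟨_, hy, m, rfl⟩ := mem_closure_iff_nhds.1 (Completion.denseRange_coe x) _ h1
  exact ⟨m, (m : Completion M) - x, hy, by abel⟩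

section map

variable (f : M →+ H) (hf : Continuous f)

include hf

theorem map_coe' (m : M) : Completion.map f (m : Completion M) = (f m : Completion H) :=
  Completion.map_coe (uniformContinuous_addMonoidHom_of_continuous hf) m

/-- The map between completions as a homomorphism. -/
noncomputable def mapHom : Completion M →+ Completion H :=
  { toFun := Completion.map f
    map_zero' := by
      rw [← Completion.coe_zero, map_coe' f hf, map_zero, Completion.coe_zero]
    map_add' := fun x y => by
      induction x, y using Completion.induction_on₂ with
      | hp =>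
        have h1 : Continuous fun p : Completion M × Completion M =>
            Completion.map f p.1 + Completion.map f p.2 := by
          have h2 : Continuous fun p : Completion M × Completion M => Completion.map f p.1 :=
            Completion.continuous_map.comp continuous_fst
          have h3 : Continuous fun p : Completion M × Completion M => Completion.map f p.2 :=
            Completion.continuous_map.comp continuous_snd
          exact h2.add h3
        exact isClosed_eq (Completion.continuous_map.comp continuous_add) h1
      | ih a b =>
        rw [← Completion.coe_add, map_coe' f hf, map_coe' f hf, map_coe' f hf, map_add,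
          Completion.coe_add] }

theorem map_mem_hat {U : AddSubgroup M} {x : Completion M} (hx : x ∈ hat U) :
    Completion.map f x ∈ hat (U.map f) := by
  have hx' : x ∈ (hat U : Set (Completion M)) := hx
  change Completion.map f x ∈ (hat (U.map f) : Set (Completion H))
  rw [coe_hat] at hx' ⊢
  refine map_mem_closure Completion.continuous_map hx' ?_
  rintro _ ⟨m, hm, rfl⟩
  exact ⟨f m, ⟨m, hm, rfl⟩, (map_coe' f hf m).symm⟩

/-- The kernel of the map between completions induced by an open homomorphism `f` is the
closure of the image of the kernel of `f`. -/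
theorem preimage_zero [NonarchimedeanAddGroup M] (ho : IsOpenMap f) :
    Completion.map f ⁻¹' {0} = closure (((↑) : M → Completion M) '' (f.ker : Set M)) := by
  apply Set.Subset.antisymm
  · intro x hx
    have hx0 : Completion.map f x = 0 := hx
    rw [mem_closure_iff_nhds]
    intro V hV
    have hc : Continuous (fun y : Completion M => x + y) := continuous_const.add continuous_id
    have h0 : (fun y : Completion M => x + y) ⁻¹' V ∈ 𝓝 (0 : Completion M) := by
      apply hc.continuousAt.preimage_mem_nhds
      simpa using hV
    obtain ⟨U, hU, hUV⟩ := exists_hat_subset h0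
    obtain ⟨m, u, hu, hmu⟩ := exists_coe_add U hU x
    have hfm : ((f m : H) : Completion H) ∈ hat (U.map f) := by
      have h1 : Completion.map f (m : Completion M) =
          Completion.map f x + Completion.map f u := by
        rw [hmu]; exact (mapHom f hf).map_add x u
      rw [← map_coe' f hf, h1, hx0, zero_add]
      exact map_mem_hat f hf hu
    have hfU : IsOpen ((U.map f : AddSubgroup H) : Set H) := by
      rw [AddSubgroup.coe_map]; exact ho _ hU
    rw [coe_mem_hat_iff ((U.map f).isClosed_of_isOpen hfU)] at hfm
    obtain ⟨u', hu', hfu'⟩ := hfm
    refine ⟨((m - u' : M) : Completion M), ?_, m - u', ?_, rfl⟩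
    · have h2 : u - (u' : Completion M) ∈ hat U := (hat U).sub_mem hu (coe_mem_hat hu')
      have h3 := hUV h2
      have h4 : ((m - u' : M) : Completion M) = x + (u - (u' : Completion M)) := by
        rw [Completion.coe_sub, hmu]; abel
      rw [h4]
      exact h3
    · change f (m - u') = 0
      rw [map_sub, sub_eq_zero]
      exact hfu'.symm
  · refine closure_minimal ?_ ((isClosed_singleton).preimage Completion.continuous_map)
    rintro _ ⟨m, hm, rfl⟩
    have hm' : f m = 0 := hm
    change Completion.map f (m : Completion M) = 0
    rw [map_coe' f hf, hm', Completion.coe_zero]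

/-- If `M` has a countable basis of open subgroups and `f` is open, surjective, then the map
between completions is surjective and open. -/
theorem surjective_and_isOpenMap [NonarchimedeanAddGroup M]
    (hc : (𝓝 (0 : M)).IsCountablyGenerated) (ho : IsOpenMap f) (hs : Function.Surjective f) :
    Function.Surjective (Completion.map f) ∧ IsOpenMap (Completion.map f) := by
  obtain ⟨U, hU, hU'⟩ := K22.Basic.exists_antitone_basis hc
  have hb : (𝓝 (0 : Completion M)).HasAntitoneBasis
      (fun n => (hat (U n) : Set (Completion M))) := by
    refine ⟨⟨fun s => ⟨fun hs => ?_, fun ⟨n, _, hn⟩ => ?_⟩⟩, fun a b hab => ?_⟩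
    · obtain ⟨V, hV, hVs⟩ := exists_hat_subset hs
      obtain ⟨n, hn⟩ := hU'.mem_iff.1 (hV.mem_nhds V.zero_mem)
      have : U n ≤ V := hn
      exact ⟨n, trivial, (show (hat (U n) : Set (Completion M)) ⊆ hat V from
        hat_mono this).trans hVs⟩
    · exact mem_of_superset ((isOpen_hat (hU n)).mem_nhds (hat (U n)).zero_mem) hn
    · exact hat_mono (hU'.antitone hab)
  have hcont : Continuous (mapHom f hf) := Completion.continuous_map
  have hcl : ∀ n, IsOpen (closure ((mapHom f hf) '' (hat (U n) : Set (Completion M)))) := by
    intro n
    have hfU : IsOpen (((U n).map f : AddSubgroup H) : Set H) := by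
      rw [AddSubgroup.coe_map]; exact ho _ (hU n)
    have h1 : (hat ((U n).map f) : Set (Completion H)) ⊆
        closure ((mapHom f hf) '' (hat (U n) : Set (Completion M))) := by
      rw [coe_hat]
      refine closure_mono ?_
      rintro _ ⟨_, ⟨m, hm, rfl⟩, rfl⟩
      exact ⟨(m : Completion M), coe_mem_hat hm, map_coe' f hf m⟩
    have h2 : closure ((mapHom f hf) '' (hat (U n) : Set (Completion M))) =
        (((hat (U n)).map (mapHom f hf)).topologicalClosure : Set (Completion H)) := by
      rw [AddSubgroup.topologicalClosure_coe, AddSubgroup.coe_map]
    rw [h2] at h1 ⊢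
    exact AddSubgroup.isOpen_mono h1 (isOpen_hat hfU)
  have hd : DenseRange (mapHom f hf) := by
    intro y
    refine closure_mono ?_ (Completion.denseRange_coe y)
    rintro _ ⟨h, rfl⟩
    obtain ⟨m, rfl⟩ := hs h
    exact ⟨(m : Completion M), map_coe' f hf m⟩
  exact ⟨K22.Basic.surjective_of_isOpen_closure (mapHom f hf) hcont _ hb hcl hd,
    K22.Basic.isOpenMap_of_isOpen_closure (mapHom f hf) hcont _ hb hcl⟩

end map

end K22.Compl
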