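import Groth.Agent.LinTop.K22.Basic
import Mathlib.RingTheory.Finiteness.Ideal
import Mathlib.RingTheory.AdicCompletion.Basic
import Mathlib.Topology.Algebra.IsUniformGroup.Constructions

/-!
# Finitely generated ideals in complete linearly topologized rings and modules
-/

set_option autoImplicit false

universe u v w

namespace K22.FG

open LinTop Filter Topology

theorem mem_mul_iff_exists_sum {R : Type u} [CommRing R] {M : Type v} [AddCommGroup M] [Module R M]
    {r : ℕ} (g : Fin r → R) (P : Submodule R M) (y : M) :
    y ∈ Ideal.span (Set.range g) • P ↔ ∃ a : Fin r → M, (∀ i, a i ∈ P) ∧ ∑ i, g i • a i = y := by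
  constructor
  · intro hy
    refine Submodule.smul_induction_on hy ?_ ?_
    · intro x hx m hm
      obtain ⟨c, rfl⟩ := Ideal.mem_span_range_iff_exists_fun.1 hx
      refine ⟨fun i => c i • m, fun i => P.smul_mem _ hm, ?_⟩
      rw [Finset.sum_smul]
      refine Finset.sum_congr rfl fun i _ => ?_
      rw [smul_smul, mul_comm]
    · rintro _ _ ⟨a, ha, rfl⟩ ⟨b, hb, rfl⟩
      refine ⟨fun i => a i + b i, fun i => P.add_mem (ha i) (hb i), ?_⟩
      rw [← Finset.sum_add_distrib]
      exact Finset.sum_congr rfl fun i _ => smul_add _ _ _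
  · rintro ⟨a, ha, rfl⟩
    exact Submodule.sum_mem _ fun i _ =>
      Submodule.smul_mem_smul (Ideal.subset_span (Set.mem_range_self i)) (ha i)

theorem exists_fin_span {R : Type u} [CommRing R] {I : Ideal R} (h : I.FG) :
    ∃ (r : ℕ) (g : Fin r → R), Ideal.span (Set.range g) = I := by
  obtain ⟨r, g, hg⟩ := Submodule.fg_iff_exists_fin_generating_family.1 h
  exact ⟨r, g, hg⟩

/-- Infinite sums with terms in `G * K k`, `G` finitely generated and `K k` tending to zero. -/
theorem exists_sum_mem {A : Type u} [CommRing A] [UniformSpace A] [IsUniformAddGroup A]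
    [IsTopologicalRing A] [NonarchimedeanAddGroup A] [CompleteSpace A]
    {G : Ideal A} (hG : G.FG) (K : ℕ → Ideal A)
    (hK : ∀ U ∈ 𝓝 (0 : A), ∃ n, ∀ m, n ≤ m → (K m : Set A) ⊆ U)
    (y : ℕ → A) (hy : ∀ k, y k ∈ G * K k) :
    ∃ s ∈ G, Tendsto (fun n => ∑ k ∈ Finset.range n, y k) atTop (𝓝 s) := by
  obtain ⟨r, g, rfl⟩ := exists_fin_span hG
  have h1 : ∀ k, ∃ a : Fin r → A, (∀ i, a i ∈ K k) ∧ ∑ i, g i • a i = y k := fun k =>
    (mem_mul_iff_exists_sum g (K k) (y k)).1 (hy k)
  choose a ha ha' using h1
  have h2 : ∀ i, ∃ α : A, Tendsto (fun n => ∑ k ∈ Finset.range n, a k i) atTop (𝓝 α) := by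
    intro i
    refine cauchySeq_tendsto_of_complete
      (NonarchimedeanAddGroup.cauchySeq_of_tendsto_sub_nhds_zero ?_)
    simp only [Finset.sum_range_succ, add_sub_cancel_left]
    rw [tendsto_def]
    intro U hU
    obtain ⟨n, hn⟩ := hK U hU
    rw [mem_atTop_sets]
    exact ⟨n, fun m hm => hn m hm (ha m i)⟩
  choose α hα using h2
  refine ⟨∑ i, g i * α i, Submodule.sum_mem _ fun i _ =>
    Ideal.mul_mem_right _ _ (Ideal.subset_span (Set.mem_range_self i)), ?_⟩
  have h3 : (fun n => ∑ k ∈ Finset.range n, y k) =
      fun n => ∑ i, g i * ∑ k ∈ Finset.range n, a k i := by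
    funext n
    simp only [← ha', Finset.mul_sum, smul_eq_mul]
    exact Finset.sum_comm
  rw [h3]
  exact tendsto_finsetSum _ fun i _ => (hα i).const_mul (g i)

section Module

variable {R : Type u} [CommRing R] {M : Type v} [AddCommGroup M] [Module R M] [UniformSpace M]
  [IsUniformAddGroup M] [CompleteSpace M] [T2Space M] [ContinuousConstSMul R M]

/-- Let `I` be finitely generated, `M` complete and Hausdorff, and `P` a closed submodule such that
the closures of the `I ^ k • P` are open and form a basis of neighbourhoods of zero.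
Then the `I ^ k • P` are open. -/
theorem isOpen_pow_smul (I : Ideal R) (hI : I.FG) (P : Submodule R M)
    (hP : IsClosed (P : Set M))
    (hopen : ∀ k : ℕ, IsOpen (closure ((I ^ k • P : Submodule R M) : Set M)))
    (hbasis : ∀ U ∈ 𝓝 (0 : M), ∃ k : ℕ, closure ((I ^ k • P : Submodule R M) : Set M) ⊆ U)
    (k : ℕ) : IsOpen ((I ^ k • P : Submodule R M) : Set M) := by
  obtain ⟨r, g, hg⟩ := exists_fin_span hI
  let Q : ℕ → Submodule R M := fun k => I ^ k • P
  have hQ : ∀ k, Q (k + 1) = I • Q k := fun k => by
    change I ^ (k + 1) • P = I • (I ^ k • P)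
    rw [pow_succ', Submodule.mul_smul]
  have hQanti : ∀ k, Q (k + 1) ≤ Q k := fun k => by rw [hQ]; exact Submodule.smul_le_right
  have hQanti' : Antitone Q := antitone_nat_of_succ_le hQanti
  let C : ℕ → AddSubgroup M := fun k => (Q k).toAddSubgroup.topologicalClosure
  have hC : ∀ k, (C k : Set M) = closure (Q k : Set M) := fun k => rfl
  have hCanti : Antitone C := fun i j hij => by
    intro x hx
    exact _root_.closure_mono (s := (Q j : Set M)) (t := Q i) (hQanti' hij) hx
  have hCo : ∀ k, IsOpen (C k : Set M) := hopen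
  -- the map
  let f : (Fin r → M) →+ M :=
    { toFun := fun x => ∑ i, g i • x i
      map_zero' := by simp
      map_add' := fun x y => by
        simp only [Pi.add_apply, smul_add, Finset.sum_add_distrib] }
  have hf : Continuous f := by
    change Continuous fun x : Fin r → M => ∑ i, g i • x i
    exact continuous_finsetSum _ fun i _ => (continuous_apply i).const_smul (g i)
  have hclosed : ∀ k, IsClosed (Q k : Set M) := by
    intro k
    induction k with
    | zero =>
      have : Q 0 = P := by simp [Q]
      rw [this]; exact hP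
    | succ k ih =>
      have hCk : (C k : Set M) = Q k := by rw [hC, ih.closure_eq]
      let U : ℕ → AddSubgroup (Fin r → M) := fun m => AddSubgroup.pi Set.univ fun _ => C (k + m)
      have hU : (𝓝 (0 : Fin r → M)).HasAntitoneBasis (fun n => (U n : Set (Fin r → M))) := by
        refine ⟨⟨fun s => ?_⟩, ?_⟩
        · constructor
          · intro hs
            rw [nhds_pi, Filter.mem_pi'] at hs
            obtain ⟨T, t, ht, hts⟩ := hs
            choose n hn using fun i => hbasis (t i) (ht i)
            refine ⟨T.sup n, trivial, fun x hx => hts fun i hi => hn i ?_⟩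
            have hx' : x i ∈ C (k + T.sup n) := (AddSubgroup.mem_pi _).1 hx i (Set.mem_univ i)
            exact hCanti ((Finset.le_sup (f := n) hi).trans (Nat.le_add_left _ k)) hx'
          · rintro ⟨n, -, hn⟩
            refine mem_of_superset ?_ hn
            refine IsOpen.mem_nhds ?_ (U n).zero_mem
            rw [AddSubgroup.coe_pi]
            exact isOpen_set_pi Set.finite_univ fun i _ => hCo _
        · intro a b hab x hx
          refine (AddSubgroup.mem_pi _).2 fun i hi => ?_
          exact hCanti (Nat.add_le_add_left hab k) ((AddSubgroup.mem_pi _).1 hx i hi)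
      have hfU : ∀ m, (Q (k + m + 1) : Set M) ⊆ f '' (U m : Set (Fin r → M)) := by
        intro m y hy
        have hy' : y ∈ Ideal.span (Set.range g) • Q (k + m) := by
          rw [hg, ← hQ]; exact hy
        obtain ⟨a, ha, hay⟩ := (mem_mul_iff_exists_sum g _ _).1 hy'
        exact ⟨a, (AddSubgroup.mem_pi _).2 fun i _ => subset_closure (ha i), hay⟩
      have hc : ∀ m, IsOpen (closure (f '' (U m : Set (Fin r → M)))) := by
        intro m
        have h1 : (C (k + m + 1) : Set M) ⊆ closure (f '' (U m : Set (Fin r → M))) :=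
          _root_.closure_mono (hfU m)
        have h2 : closure (f '' (U m : Set (Fin r → M))) =
            (((U m).map f).topologicalClosure : Set M) := by
          rw [AddSubgroup.topologicalClosure_coe, AddSubgroup.coe_map]
        rw [h2] at h1 ⊢
        exact AddSubgroup.isOpen_mono h1 (hCo _)
      have hfin := K22.Basic.closure_image_subset f hf U hU hc 0
      have h3 : f '' (U 0 : Set (Fin r → M)) = (Q (k + 1) : Set M) := by
        apply Set.Subset.antisymm
        · rintro _ ⟨a, ha, rfl⟩
          rw [hQ, ← hg]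
          refine (mem_mul_iff_exists_sum g _ _).2 ⟨a, fun i => ?_, rfl⟩
          have h4 : a i ∈ (C (k + 0) : Set M) := (AddSubgroup.mem_pi _).1 ha i (Set.mem_univ i)
          rw [add_zero, hCk] at h4
          exact h4
        · exact hfU 0
      rw [h3] at hfin
      exact isClosed_of_closure_subset hfin
  have := hCo k
  rw [hC, (hclosed k).closure_eq] at this
  exact this

end Module

end K22.FG
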