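import Groth.Agent.LinTop.K22.Basic
import Mathlib.Topology.Algebra.UniformRing
import Mathlib.RingTheory.Finiteness.Ideal

/-!
# Taut maps: completions, linear topologies, faithfully flat descent
-/

set_option autoImplicit false

universe u v w

namespace K22.Taut

open LinTop Filter Topology

section

variable {A : Type u} [CommRing A] [TopologicalSpace A]
variable {B : Type v} [CommRing B] [TopologicalSpace B] [IsTopologicalRing B]

/-- The target of a taut map is linearly topologized. -/
theorem isLinearTopology {φ : A →+* B} (hφ : IsTaut φ) : IsLinearTopology B B := by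
  have hb : (nhds (0 : B)).HasBasis (fun I : Ideal A => IsOpen (I : Set A))
      (fun I : Ideal A => ((I.map φ).closure : Set B)) := by
    refine ⟨fun s => ⟨fun hs => ?_, fun ⟨I, hI, hIs⟩ => ?_⟩⟩
    · obtain ⟨I, hI, h⟩ := hφ.2.2 s hs
      exact ⟨I, hI, h⟩
    · exact mem_of_superset (K22.Basic.mem_nhds (K22.Basic.taut_isOpen hφ hI)) hIs
  exact IsLinearTopology.mk_of_hasBasis B hb

omit [TopologicalSpace A] in
/-- If `φ` has dense range, the extension of an ideal lies in the closure of its image. -/
theorem map_subset_closure_image {φ : A →+* B} (hd : DenseRange φ) (J : Ideal A) :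
    ((J.map φ : Ideal B) : Set B) ⊆ closure (φ '' (J : Set A)) := by
  intro x hx
  refine Submodule.span_induction (p := fun x _ => x ∈ closure (φ '' (J : Set A)))
    ?_ ?_ ?_ ?_ hx
  · intro y hy
    exact subset_closure hy
  · exact subset_closure ⟨0, J.zero_mem, map_zero φ⟩
  · intro y z _ _ hy hz
    exact map_mem_closure₂ continuous_add hy hz (by
      rintro _ ⟨a, ha, rfl⟩ _ ⟨b, hb, rfl⟩
      exact ⟨a + b, J.add_mem ha hb, map_add φ a b⟩)
  · intro b y _ hy
    exact map_mem_closure₂ continuous_mul (hd b) hy (by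
      rintro _ ⟨a, rfl⟩ _ ⟨b, hb, rfl⟩
      exact ⟨a * b, J.mul_mem_left a hb, map_mul φ a b⟩)

omit [TopologicalSpace A] in
theorem closure_map_eq {φ : A →+* B} (hd : DenseRange φ) (J : Ideal A) :
    closure ((J.map φ : Ideal B) : Set B) = closure (φ '' (J : Set A)) := by
  apply Set.Subset.antisymm
  · exact closure_minimal (map_subset_closure_image hd J) isClosed_closure
  · refine closure_mono ?_
    rintro _ ⟨a, ha, rfl⟩
    exact Ideal.mem_map_of_mem φ ha

/-- In the taut faithfully flat situation, open ideals are contracted from the closure of their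
extension. -/
theorem comap_closure_map {φ : A →+* B} (hφ : IsTautFFlat φ) {I : Ideal A}
    (hI : IsOpen (I : Set A)) : (I.map φ).closure.comap φ = I := by
  apply le_antisymm
  · intro x hx
    have hinj := (hφ.2 I hI).injective
    rw [← Ideal.Quotient.eq_zero_iff_mem]
    apply hinj
    rw [map_zero]
    change Ideal.Quotient.mk _ (φ x) = 0
    exact Ideal.Quotient.eq_zero_iff_mem.2 hx
  · exact Ideal.le_comap_map.trans (Ideal.comap_mono (K22.Basic.le_closure _))

/-- In the taut faithfully flat situation, if the extension of `I` is contained in the closure of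
the extension of `J`, `J` open, then `I ≤ J`. -/
theorem le_of_map_le {φ : A →+* B} (hφ : IsTautFFlat φ) {I J : Ideal A}
    (hJ : IsOpen (J : Set A)) (h : I.map φ ≤ (J.map φ).closure) : I ≤ J := by
  rw [← comap_closure_map hφ hJ]
  exact Ideal.map_le_iff_le_comap.1 h

variable [IsTopologicalRing A] [IsLinearTopology A A]

/-- In the taut faithfully flat situation, if the closure of the extension of `I` is open, the
closure of `I` is open. -/
theorem isOpen_closure_of {φ : A →+* B} (hφ : IsTautFFlat φ) {I : Ideal A}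
    (h : IsOpen ((I.map φ).closure : Set B)) : IsOpen (I.closure : Set A) := by
  obtain ⟨I', hI', hI''⟩ := K22.Basic.taut_exists hφ.1 h
  refine K22.Basic.isOpen_of_le hI' fun x hx => ?_
  rw [K22.Basic.mem_closure_iff]
  intro K hK
  have hK' : IsOpen ((I ⊔ K : Ideal A) : Set A) := K22.Basic.isOpen_of_le hK le_sup_right
  have h1 : I' ≤ I ⊔ K := by
    refine le_of_map_le hφ hK' ?_
    refine (K22.Basic.le_closure _).trans (hI''.trans (K22.Basic.closure_mono ?_))
    exact Ideal.map_mono le_sup_left
  exact h1 hx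

end

section Compl

variable (A : Type u) [CommRing A] [UniformSpace A] [IsUniformAddGroup A] [IsTopologicalRing A]
  [IsLinearTopology A A]

theorem isTaut_coe_completion :
    IsTaut (UniformSpace.Completion.coeRingHom : A →+* UniformSpace.Completion A) := by
  have hd : DenseRange (UniformSpace.Completion.coeRingHom : A →+* UniformSpace.Completion A) :=
    UniformSpace.Completion.denseRange_coe
  have hdi := UniformSpace.Completion.isDenseInducing_coe (α := A)
  refine ⟨UniformSpace.Completion.continuous_coe A, fun I hI => ?_, fun U hU => ?_⟩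
  · rw [closure_map_eq hd]
    have h1 : closure ((UniformSpace.Completion.coeRingHom :
        A →+* UniformSpace.Completion A) '' (I : Set A)) ∈
        𝓝 (0 : UniformSpace.Completion A) := by
      have := hdi.closure_image_mem_nhds (K22.Basic.mem_nhds hI)
      rw [UniformSpace.Completion.coe_zero] at this
      exact this
    rw [← closure_map_eq hd] at h1 ⊢
    exact (I.map (UniformSpace.Completion.coeRingHom :
      A →+* UniformSpace.Completion A)).closure.toAddSubgroup.isOpen_of_mem_nhds h1
  · obtain ⟨T, hT, hTc, hTU⟩ := exists_mem_nhds_isClosed_subset hU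
    have h1 : (UniformSpace.Completion.coeRingHom : A →+* UniformSpace.Completion A) ⁻¹' T ∈
        𝓝 (0 : A) := by
      refine (UniformSpace.Completion.continuous_coe A).continuousAt.preimage_mem_nhds ?_
      rw [UniformSpace.Completion.coe_zero]
      exact hT
    obtain ⟨J, hJ, hJT⟩ := K22.Basic.exists_open_ideal h1
    refine ⟨J, hJ, ?_⟩
    rw [closure_map_eq hd]
    exact (closure_minimal (Set.image_subset_iff.2 hJT) hTc).trans hTU

end Compl

section FG

variable {A : Type u} [CommRing A] {B : Type v} [CommRing B]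

theorem exists_fg_of_mem_map (φ : A →+* B) (I : Ideal A) (y : B) (hy : y ∈ I.map φ) :
    ∃ I' : Ideal A, I' ≤ I ∧ I'.FG ∧ y ∈ I'.map φ := by
  refine Submodule.span_induction (p := fun y _ => ∃ I' : Ideal A, I' ≤ I ∧ I'.FG ∧ y ∈ I'.map φ)
    ?_ ?_ ?_ ?_ hy
  · rintro _ ⟨a, ha, rfl⟩
    exact ⟨Ideal.span {a}, (Ideal.span_singleton_le_iff_mem I).2 ha,
      Submodule.fg_span_singleton a, Ideal.mem_map_of_mem φ (Ideal.mem_span_singleton_self a)⟩
  · exact ⟨⊥, bot_le, Submodule.fg_bot, Submodule.zero_mem _⟩
  · rintro y z _ _ ⟨I₁, h1, h2, h3⟩ ⟨I₂, h4, h5, h6⟩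
    exact ⟨I₁ ⊔ I₂, sup_le h1 h4, Submodule.FG.sup h2 h5, Ideal.add_mem _
      (Ideal.map_mono le_sup_left h3) (Ideal.map_mono le_sup_right h6)⟩
  · rintro b y _ ⟨I₁, h1, h2, h3⟩
    exact ⟨I₁, h1, h2, Ideal.mul_mem_left _ _ h3⟩

theorem exists_fg_of_le (φ : A →+* B) (I : Ideal A) (L F : Ideal B) (hF : F.FG)
    (hFI : F ≤ I.map φ ⊔ L) : ∃ I' : Ideal A, I' ≤ I ∧ I'.FG ∧ F ≤ I'.map φ ⊔ L := by
  classical
  obtain ⟨s, hs⟩ := hF
  have key : ∀ s : Finset B, (∀ x ∈ s, x ∈ I.map φ ⊔ L) →
      ∃ I' : Ideal A, I' ≤ I ∧ I'.FG ∧ ∀ x ∈ s, x ∈ I'.map φ ⊔ L := by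
    intro s
    induction s using Finset.induction_on with
    | empty => exact fun _ => ⟨⊥, bot_le, Submodule.fg_bot, fun x hx => by simp at hx⟩
    | insert a s ha ih =>
      intro h
      obtain ⟨I₁, h1, h2, h3⟩ := ih fun x hx => h x (Finset.mem_insert_of_mem hx)
      obtain ⟨y, hy, z, hz, hyz⟩ := Submodule.mem_sup.1 (h a (Finset.mem_insert_self a s))
      obtain ⟨I₂, h4, h5, h6⟩ := exists_fg_of_mem_map φ I y hy
      refine ⟨I₁ ⊔ I₂, sup_le h1 h4, Submodule.FG.sup h2 h5, fun x hx => ?_⟩
      rcases Finset.mem_insert.1 hx with rfl | hx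
      · rw [← hyz]
        exact Submodule.add_mem_sup (Ideal.map_mono le_sup_right h6) hz
      · exact sup_le_sup_right (Ideal.map_mono le_sup_left) L (h3 x hx)
  obtain ⟨I', h1, h2, h3⟩ := key s fun x hx => hFI (by rw [← hs]; exact Submodule.subset_span hx)
  refine ⟨I', h1, h2, ?_⟩
  rw [← hs]
  exact Submodule.span_le.2 fun x hx => h3 x hx

end FG

end K22.Taut
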